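import Cfsg.Agent.Mrg.Omega.ThmC.TwoE
import Cfsg.Agent.Mrg.Omega.ThmC.TwoData

section


/-!
# THEOREM C with `D`, `q = 2` (bb OMEGA 19448), (A4), (A5): the input of the count

`DatD.out` : if `O₂(C_G(z o))` is not contained in `S` then there are a subgroup `A` of it and a set `J` of one or two
indices `≠ o` such that `A` centralises `z l` for `l ∉ J`, and `|A : C_A(z j)| ≥ 4 ^ |J|` for `j ∈ J`.
-/

set_option autoImplicit false
set_option linter.unusedSectionVars false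

namespace Cfsg.Agent.Omega.IId.ThmCD

open scoped Pointwise
open Subgroup Cfsg Cfsg.Agent.MinSimple.VModule Cfsg.Agent.Omega.ThmC
open Cfsg.Agent.ZN (zc o2)
open Cfsg.Agent.Omega.IITwo.Count (conj_mem conj_mem' mem_norm)
open Cfsg.Agent.Omega.ThmC.Dat (KQ Wp Wp_le Wp_nor_ZK CX mem_CX)
open Cfsg.Agent.Omega.ThmC.TwoW (CB mem_CB cx cube com_e rd BU pick cc)

universe u

variable {G : Type u} [Group G]

/-- a nontrivial 2-group with three elements has four. -/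
theorem four_le {N : Type*} [Group N] [Finite N] {B : Subgroup N} (hB : IsPGroup 2 B) {b c : N} (hb : b ∈ B)
    (hc : c ∈ B) (hb1 : b ≠ 1) (hc1 : c ≠ 1) (hbc : b ≠ c) : 4 ≤ Nat.card B := by
  classical
  obtain ⟨n, hn⟩ := (IsPGroup.iff_card (p := 2)).1 hB
  have h3 : 3 ≤ Nat.card B := by
    have := Fintype.ofFinite B
    rw [Nat.card_eq_fintype_card]
    have h1 : ({1, ⟨b, hb⟩, ⟨c, hc⟩} : Finset B).card = 3 := by
      rw [Finset.card_insert_of_notMem, Finset.card_insert_of_notMem, Finset.card_singleton]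
      · rw [Finset.mem_singleton]
        exact fun h => hbc (congrArg Subtype.val h)
      · rw [Finset.mem_insert, Finset.mem_singleton]
        rintro (h | h)
        · exact hb1 (congrArg Subtype.val h).symm
        · exact hc1 (congrArg Subtype.val h).symm
    rw [← h1]
    exact Finset.card_le_univ _
  rw [hn] at h3 ⊢
  rcases n with _ | _ | n
  · norm_num at h3
  · norm_num at h3
  · calc 4 = 2 ^ 2 := by norm_num
      _ ≤ 2 ^ (n + 1 + 1) := Nat.pow_le_pow_right (by norm_num) (by omega)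

namespace DatD

variable {S : Sylow 2 G} {Q : Subgroup G} {ι : Type} {Z : ι → Subgroup G} {x z : ι → G}

section
variable [Finite G] (D : DatD S Q Z x z) {o : ι}

include D in
theorem inv_mem_S0 (l : ι) : ∃ a ∈ S0 (S : Subgroup G) Z,
    (∀ v ∈ zc Q, (a * x l * a⁻¹) * v * (a * x l * a⁻¹)⁻¹ = (x l)⁻¹ * v * x l) ∧
      ∀ m, m ≠ l → ∀ v ∈ zc Q, (a * x m * a⁻¹) * v * (a * x m * a⁻¹)⁻¹ = x m * v * (x m)⁻¹ := by
  obtain ⟨a, ha, h1, h2⟩ := D.inv l
  refine ⟨a, (D.mem_S0_iff ha).2 fun n => D.sg_eq' ha fun v hv => ?_, h1, h2⟩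
  have hw : a * v * a⁻¹ ∈ zc Q := conj_mem (D.SN ha) (D.le n hv)
  have e1 : a * pr (x n) v * a⁻¹ = pr (a * x n * a⁻¹) (a * v * a⁻¹) := by
    unfold pr; group
  rw [D.pr_self hv] at e1
  have e2 : pr (a * x n * a⁻¹) (a * v * a⁻¹) = pr (x n) (a * v * a⁻¹) := by
    rcases eq_or_ne n l with rfl | hn
    · unfold pr
      rw [h1 _ hw, h1 _ (conj_mem' (D.xN _) hw)]
      generalize a * v * a⁻¹ = w at *
      have k1 : x n * (x n * w * (x n)⁻¹) * (x n)⁻¹ ∈ zc Q := conj_mem (D.xN n) (conj_mem (D.xN n) hw)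
      have k2 : x n * w * (x n)⁻¹ ∈ zc Q := conj_mem (D.xN n) hw
      have e2 : (x n)⁻¹ * w * x n = x n * (x n * w * (x n)⁻¹) * (x n)⁻¹ := by
        have h3 := D.x_cube n hw
        calc (x n)⁻¹ * w * x n =
            (x n)⁻¹ * (x n * (x n * (x n * w * (x n)⁻¹) * (x n)⁻¹) * (x n)⁻¹) * x n := by rw [h3]
          _ = _ := by group
      have e3 : (x n)⁻¹ * ((x n)⁻¹ * w * x n) * x n = x n * w * (x n)⁻¹ := by
        rw [e2]; group
      rw [e3, e2]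
      exact zc_comm Q _ k1 _ k2
    · unfold pr
      rw [h2 n hn _ hw, h2 n hn _ (conj_mem (D.xN _) hw)]
  rw [e1, e2]
  exact D.prj n _ hw

/-- `z l` in `Ω₁Z(KQ)`. -/
def zK [Finite ι] (D : DatD S Q Z x z) (o l : ι) : Md (KQ S Q (z o)) := Md.mk (z l) (D.E_le_ZK (D.z_mem_E l))

/-- the preimage in `W'` of a subgroup of `NG (KQ)`. -/
def Ap (S : Sylow 2 G) (Q : Subgroup G) (v : G) (B : Subgroup ↥(NG (KQ S Q v))) : Subgroup G :=
  (B.comap (zc (KQ S Q v)).normalizerMonoidHom.rangeRestrict).map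
      (normalizer (zc (KQ S Q v) : Set G)).subtype ⊓ Wp S Q v

theorem mem_Ap {v : G} {B : Subgroup ↥(NG (KQ S Q v))} {g : G} :
    g ∈ Ap S Q v B ↔ g ∈ Wp S Q v ∧ ∃ h : g ∈ normalizer (zc (KQ S Q v) : Set G), phi h ∈ B := by
  rw [Ap, mem_inf]
  constructor
  · rintro ⟨⟨⟨g', hg'⟩, h1, rfl⟩, h2⟩
    exact ⟨h2, hg', h1⟩
  · rintro ⟨h1, h2, h3⟩
    exact ⟨⟨⟨g, h2⟩, h3, rfl⟩, h1⟩

variable [Finite ι]

theorem val_zK (l : ι) : (D.zK o l).val = z l := rfl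

theorem fix_iff {g : G} (hg : g ∈ normalizer (zc (KQ S Q (z o)) : Set G)) (l : ι) :
    phi hg • D.zK o l = D.zK o l ↔ g ∈ centralizer ({z l} : Set G) := by
  rw [mem_cs', ← Md.val_inj, val_phi, D.val_zK]

/-- `|B| ≤ |A : C_A(z j)|` if no element `≠ 1` of `B` fixes `z j`. -/
theorem card_le_relIndex {B : Subgroup ↥(NG (KQ S Q (z o)))} (hB : B ≤ img (KQ S Q (z o)) (Wp S Q (z o))) {j : ι}
    (h : ∀ b ∈ B, b • D.zK o j = D.zK o j → b = 1) :
    Nat.card B ≤ (centralizer ({z j} : Set G)).relIndex (Ap S Q (z o) B) := by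
  have key : ∀ b : B, ∃ g : Ap S Q (z o) B, ∃ hg : (g : G) ∈ normalizer (zc (KQ S Q (z o)) : Set G),
      phi hg = (b : ↥(NG (KQ S Q (z o)))) := by
    intro b
    obtain ⟨g, hg, hgW, hgb⟩ := mem_img.1 (hB b.2)
    exact ⟨⟨g, mem_Ap.2 ⟨hgW, hg, hgb ▸ b.2⟩⟩, hg, hgb⟩
  choose f hf hfb using key
  refine Nat.card_le_card_of_injective
    (fun b : B => (QuotientGroup.mk (f b) : Ap S Q (z o) B ⧸ (centralizer ({z j} : Set G)).subgroupOf _)) ?_
  intro b c hbc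
  rw [QuotientGroup.eq, mem_subgroupOf] at hbc
  have hbc' : ((f b : Ap S Q (z o) B) : G)⁻¹ * (f c : G) ∈ centralizer ({z j} : Set G) := hbc
  have hN : ((f b : Ap S Q (z o) B) : G)⁻¹ * (f c : G) ∈ normalizer (zc (KQ S Q (z o)) : Set G) :=
    mul_mem (inv_mem (hf b)) (hf c)
  have h1 : (b : ↥(NG (KQ S Q (z o))))⁻¹ * (c : ↥(NG (KQ S Q (z o)))) = phi hN := by
    rw [← hfb b, ← hfb c, phi_inv, phi_mul]
  have h2 := h ((b : ↥(NG (KQ S Q (z o))))⁻¹ * (c : ↥(NG (KQ S Q (z o))))) (mul_mem (inv_mem b.2) c.2) (by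
    rw [h1, D.fix_iff]; exact hbc')
  exact Subtype.ext (inv_mul_eq_one.1 h2)

include D in
/-- `W' / K ≠ 1`. -/
theorem img_ne_bot (h : ¬ WW (z o) ≤ (S : Subgroup G)) : img (KQ S Q (z o)) (Wp S Q (z o)) ≠ ⊥ := by
  intro h0
  obtain ⟨w, hw, hwS⟩ := D.exists_Wp h
  have h1 : phi (Wp_nor_ZK hw) = 1 := by
    rw [← mem_bot, ← h0]
    exact phi_mem_img _ hw
  rw [phi_eq_one_iff] at h1
  exact hwS (mem_inf.mp (D.Wp_faith hw h1)).2

/-- an element of `W'/K` fixing all `z l` is `1`. -/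
theorem eq_one_of {b : ↥(NG (KQ S Q (z o)))} (hb : b ∈ img (KQ S Q (z o)) (Wp S Q (z o)))
    (h : ∀ l, b • D.zK o l = D.zK o l) : b = 1 := by
  obtain ⟨w, hwN, hw, rfl⟩ := mem_img.1 hb
  rw [phi_eq_one_iff]
  refine D.K_le_C (mem_inf.mpr ⟨Wp_le hw, D.mem_S_of (Wp_le hw) fun l => ?_⟩)
  exact mem_cs.1 ((D.fix_iff hwN l).1 (h l))

theorem fix_o {b : ↥(NG (KQ S Q (z o)))} (hb : b ∈ img (KQ S Q (z o)) (Wp S Q (z o))) :
    b • D.zK o o = D.zK o o := by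
  obtain ⟨w, hwN, hw, rfl⟩ := mem_img.1 hb
  rw [D.fix_iff]
  exact WW_le _ (Wp_le hw)

theorem Ap_le_C {B : Subgroup ↥(NG (KQ S Q (z o)))} {l : ι} (h : ∀ b ∈ B, b • D.zK o l = D.zK o l) :
    Ap S Q (z o) B ≤ centralizer ({z l} : Set G) := by
  intro g hg
  obtain ⟨h1, h2, h3⟩ := mem_Ap.1 hg
  exact (D.fix_iff h2 l).1 (h _ h3)

theorem xh_fix {l m : ι} (hl : l ≠ o) (hlm : l ≠ m) : D.xh o l • D.zK o m = D.zK o m := by
  rw [D.xh_eq hl, D.fix_iff]
  exact mem_cs'.2 (D.triv l m hlm _ (D.zm m))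

include D in
theorem out (h : ¬ WW (z o) ≤ (S : Subgroup G)) :
    ∃ (A : Subgroup G) (J : Finset ι), o ∉ J ∧ (J.card = 1 ∨ J.card = 2) ∧ A ≤ o2 (centralizer {z o}) ∧
      (∀ l, l ∉ J → A ≤ centralizer {z l}) ∧
        ∀ j ∈ J, 4 ^ J.card ≤ (centralizer ({z j} : Set G)).relIndex A := by
  classical
  have := Fintype.ofFinite ι
  have W := D.wdat (o := o)
  have R := rd W
  set H := img (KQ S Q (z o)) (Wp S Q (z o)) with hH
  obtain ⟨J, hJ0, ho, hJ, hcase⟩ := TwoW.core R W.xH W.H2 W.CH (D.img_ne_bot h)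
  set B := CB H o (D.xh o) J with hB
  have hjo : ∀ j ∈ J, j ≠ o := fun j hj h => ho (h ▸ hj)
  have hBH : B ≤ H := fun b hb => hb.1
  have hB2 : IsPGroup 2 B := W.H2.to_le hBH
  -- `b` fixes `z l` for `l ∉ J`
  have hfix : ∀ l, l ∉ J → ∀ b ∈ B, b • D.zK o l = D.zK o l := by
    intro l hl b hb
    rcases eq_or_ne l o with rfl | hlo
    · exact D.fix_o (hBH hb)
    · obtain ⟨j, hj⟩ : ∃ j, j ∈ J := by
        rcases hcase with ⟨j, rfl⟩ | ⟨j, _, _, hj, _⟩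
        · exact ⟨j, Finset.mem_singleton_self j⟩
        · exact ⟨j, hj⟩
      have hlj : l ≠ j := fun h => hl (h ▸ hj)
      have h1 := cube W (hjo j hj) hlj hb.2.2.1 (TwoW.nm R (hjo j hj) (W.xH j (hjo j hj)) (hJ j hj) hb)
        (fun y => DFunLike.congr_fun (com_e R hlo (hb.2.2.2 l hlo hl)).eq y) (D.zK o l)
      have h2 : D.pK o l (D.zK o l) = D.zK o l := by
        rw [D.pO_ne hlo, D.pX_eq_iff]
        exact D.zm l
      rwa [h2] at h1
  -- conjugates under `x j`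
  have hconj : ∀ j ∈ J, ∀ b ∈ B, b ≠ 1 → D.xh o j * b * (D.xh o j)⁻¹ ∈ B ∧ D.xh o j * b * (D.xh o j)⁻¹ ≠ 1 ∧
      b ≠ D.xh o j * b * (D.xh o j)⁻¹ := by
    intro j hj b hb hb1
    refine ⟨cx R (hjo j hj) (W.xH j (hjo j hj)) b hb, fun h => hb1 ?_, fun h => hb1 (hJ j hj b hb ?_)⟩
    · have e : b = (D.xh o j)⁻¹ * (D.xh o j * b * (D.xh o j)⁻¹) * D.xh o j := by group
      rw [e, h]; group
    · rw [eq_mul_inv_iff_mul_eq] at h
      exact h
  -- the case of one index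
  have one : ∀ j ∈ J, ∀ b ∈ B, b ≠ 1 → (∀ l ∈ J, l ≠ j → b • D.zK o l = D.zK o l) →
      ∃ (A : Subgroup G) (J : Finset ι), o ∉ J ∧ (J.card = 1 ∨ J.card = 2) ∧ A ≤ o2 (centralizer {z o}) ∧
      (∀ l, l ∉ J → A ≤ centralizer {z l}) ∧
        ∀ j ∈ J, 4 ^ J.card ≤ (centralizer ({z j} : Set G)).relIndex A := by
    intro j hj b hb hb1 hbl
    -- the elements of `B` fixing `z l` for all `l ≠ j`
    let B' : Subgroup ↥(NG (KQ S Q (z o))) := B ⊓ ⨅ l : {l // l ≠ j}, MulAction.stabilizer _ (D.zK o l.1)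
    have hB' : ∀ c, c ∈ B' ↔ c ∈ B ∧ ∀ l, l ≠ j → c • D.zK o l = D.zK o l := by
      intro c
      rw [mem_inf, mem_iInf]
      simp only [MulAction.mem_stabilizer_iff, Subtype.forall]
    have hbB' : b ∈ B' := (hB' b).2 ⟨hb, fun l hl => by
      by_cases hlJ : l ∈ J
      · exact hbl l hlJ hl
      · exact hfix l hlJ b hb⟩
    have hxB' : D.xh o j * b * (D.xh o j)⁻¹ ∈ B' := by
      refine (hB' _).2 ⟨(hconj j hj b hb hb1).1, fun l hl => ?_⟩
      have h1 := D.xh_fix (o := o) (hjo j hj) (Ne.symm hl)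
      have h2 : (D.xh o j)⁻¹ • D.zK o l = D.zK o l := by rw [inv_smul_eq_iff, h1]
      rw [mul_smul, mul_smul, h2, ((hB' b).1 hbB').2 l hl, h1]
    have hc : 4 ≤ Nat.card B' :=
      four_le (hB2.to_le inf_le_left) hbB' hxB' hb1 (hconj j hj b hb hb1).2.1 (hconj j hj b hb hb1).2.2
    refine ⟨Ap S Q (z o) B', {j}, by rw [Finset.mem_singleton]; exact (hjo j hj).symm,
      Or.inl (Finset.card_singleton j), fun g hg => Wp_le (mem_Ap.1 hg).1, fun l hl => ?_, fun i hi => ?_⟩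
    · rw [Finset.mem_singleton] at hl
      exact D.Ap_le_C fun c hc => ((hB' c).1 hc).2 l hl
    · rw [Finset.mem_singleton] at hi
      subst hi
      rw [Finset.card_singleton, pow_one]
      refine hc.trans (D.card_le_relIndex (inf_le_left.trans hBH) fun c hc hci => ?_)
      refine D.eq_one_of (hBH hc.1) fun l => ?_
      rcases eq_or_ne l i with rfl | hl
      · exact hci
      · exact ((hB' c).1 hc).2 l hl
  rcases hcase with ⟨j, rfl⟩ | ⟨l, m, hlm, lJ, mJ, hlmJ⟩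
  · obtain ⟨⟨b, hb⟩, hb1'⟩ := ne_bot_iff_exists_ne_one.1 hJ0
    have hb1 : b ≠ 1 := fun h => hb1' (Subtype.ext h)
    refine one j (Finset.mem_singleton_self j) b hb hb1 fun l hl hlj => ?_
    exact absurd (Finset.mem_singleton.1 hl) hlj
  · by_cases hl : ∃ b ∈ B, b ≠ 1 ∧ b • D.zK o l = D.zK o l
    · obtain ⟨b, hb, hb1, hbl⟩ := hl
      refine one m mJ b hb hb1 fun a ha ham => ?_
      rcases hlmJ a ha with rfl | rfl
      · exact hbl
      · exact absurd rfl ham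
    by_cases hm : ∃ b ∈ B, b ≠ 1 ∧ b • D.zK o m = D.zK o m
    · obtain ⟨b, hb, hb1, hbm⟩ := hm
      refine one l lJ b hb hb1 fun a ha hal => ?_
      rcases hlmJ a ha with rfl | rfl
      · exact absurd rfl hal
      · exact hbm
    push Not at hl hm
    have hlo := hjo l lJ
    have hmo := hjo m mJ
    -- `|B| ≥ 16`
    have hxx : D.xh o l * D.xh o m = D.xh o m * D.xh o l := R.xx hlo hmo
    have hx3 : D.xh o m * D.xh o m * D.xh o m = 1 := R.x3 hmo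
    have hx3l : D.xh o l * D.xh o l * D.xh o l = 1 := R.x3 hlo
    set X := D.xh o l with hX
    set Y := D.xh o m with hY
    let B₁ : Subgroup ↥(NG (KQ S Q (z o))) := B ⊓ centralizer {X * Y}
    let B₂ : Subgroup ↥(NG (KQ S Q (z o))) := B ⊓ centralizer {X * (Y * Y)}
    have m₁ : ∀ b, b ∈ B₁ ↔ b ∈ B ∧ Commute b (X * Y) := fun b => by
      rw [mem_inf, mem_centralizer_singleton_iff]; exact Iff.rfl
    have m₂ : ∀ b, b ∈ B₂ ↔ b ∈ B ∧ Commute b (X * (Y * Y)) := fun b => by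
      rw [mem_inf, mem_centralizer_singleton_iff]; exact Iff.rfl
    -- the element `u` inverting `X`, centralising `Y`
    obtain ⟨a, haS, ha1, ha2⟩ := D.inv_mem_S0 l
    have haN := D.S0_nor_ZK (o := o) haS
    set u := phi haN with hu
    have huU : u ∈ img (KQ S Q (z o)) (S0 (S : Subgroup G) Z) := phi_mem_img haN haS
    have uX : u * X * u⁻¹ = X⁻¹ := by
      rw [hX, D.xh_eq hlo, hu, phi_mul, phi_inv, phi_mul, phi_inv, phi_eq_iff]
      intro v hv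
      rw [inv_inv]
      exact ha1 v (D.ZK_le hv)
    have uY : u * Y * u⁻¹ = Y := by
      rw [hY, D.xh_eq hmo, hu, phi_mul, phi_inv, phi_mul, phi_eq_iff]
      exact fun v hv => ha2 m hlm.symm v (D.ZK_le hv)
    have hcXY : Commute X Y := hxx
    have hYY : Y * Y = Y⁻¹ := eq_inv_of_mul_eq_one_left hx3
    have hXX : X * X = X⁻¹ := eq_inv_of_mul_eq_one_left hx3l
    -- conjugation by `u` exchanges `B₁` and `B₂`
    have sw12 : ∀ b, b ∈ B₁ → u * b * u⁻¹ ∈ B₂ := by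
      intro b hb
      obtain ⟨hb1, hb2⟩ := (m₁ b).1 hb
      refine (m₂ _).2 ⟨BU W u huU b hb1, ?_⟩
      have h1 : Commute (u * b * u⁻¹) (u * (X * Y) * u⁻¹) := (Commute.conj_iff u).2 hb2
      have h2 : u * (X * Y) * u⁻¹ = X⁻¹ * Y := by
        calc u * (X * Y) * u⁻¹ = (u * X * u⁻¹) * (u * Y * u⁻¹) := by group
          _ = _ := by rw [uX, uY]
      rw [h2] at h1
      have h3 : X * (Y * Y) = (X⁻¹ * Y)⁻¹ := by
        rw [hYY, mul_inv_rev, inv_inv]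
        exact (hcXY.inv_right).eq
      rw [h3]
      exact h1.inv_right
    have sw21 : ∀ b, b ∈ B₂ → u * b * u⁻¹ ∈ B₁ := by
      intro b hb
      obtain ⟨hb1, hb2⟩ := (m₂ b).1 hb
      refine (m₁ _).2 ⟨BU W u huU b hb1, ?_⟩
      have h1 : Commute (u * b * u⁻¹) (u * (X * (Y * Y)) * u⁻¹) := (Commute.conj_iff u).2 hb2
      have h2 : u * (X * (Y * Y)) * u⁻¹ = X⁻¹ * (Y * Y) := by
        calc u * (X * (Y * Y)) * u⁻¹ = (u * X * u⁻¹) * ((u * Y * u⁻¹) * (u * Y * u⁻¹)) := by group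
          _ = _ := by rw [uX, uY]
      rw [h2] at h1
      have h3 : X * Y = (X⁻¹ * (Y * Y))⁻¹ := by
        rw [hYY, mul_inv_rev, inv_inv, inv_inv]
        exact hcXY.eq
      rw [h3]
      exact h1.inv_right
    have cne : ∀ b : ↥(NG (KQ S Q (z o))), b ≠ 1 → u * b * u⁻¹ ≠ 1 := fun b hb h => hb (by
      have e : b = u⁻¹ * (u * b * u⁻¹) * u := by group
      rw [e, h]; group)
    obtain ⟨b₁, hb₁, hb₁1, b₂, hb₂, hb₂1⟩ : ∃ b₁ ∈ B₁, b₁ ≠ 1 ∧ ∃ b₂ ∈ B₂, b₂ ≠ 1 := by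
      obtain ⟨⟨b, hb⟩, hb1'⟩ := ne_bot_iff_exists_ne_one.1 hJ0
      have hb1 : b ≠ 1 := fun h => hb1' (Subtype.ext h)
      obtain ⟨c₁, h1, c₂, h2, hcc, k1, k2, -⟩ := pick R W.xH ho hJ lJ mJ hb
      by_cases h0 : c₁ = 1
      · have hc2 : c₂ ≠ 1 := fun h => hb1 (by rw [hcc, h0, h, one_mul])
        have hm2 : c₂ ∈ B₂ := (m₂ _).2 ⟨h2, k2⟩
        exact ⟨_, sw21 _ hm2, cne _ hc2, _, hm2, hc2⟩
      · have hm1 : c₁ ∈ B₁ := (m₁ _).2 ⟨h1, k1⟩
        exact ⟨_, hm1, h0, _, sw12 _ hm1, cne _ h0⟩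
    have inv₁ : ∀ b ∈ B₁, X * b * X⁻¹ ∈ B₁ := by
      intro b hb
      obtain ⟨h1, h2⟩ := (m₁ b).1 hb
      refine (m₁ _).2 ⟨cx R hlo (W.xH l hlo) b h1, ?_⟩
      have h3 : Commute X (X * Y) := (Commute.refl X).mul_right hcXY
      exact (h3.mul_left h2).mul_left h3.inv_left
    have inv₂ : ∀ b ∈ B₂, X * b * X⁻¹ ∈ B₂ := by
      intro b hb
      obtain ⟨h1, h2⟩ := (m₂ b).1 hb
      refine (m₂ _).2 ⟨cx R hlo (W.xH l hlo) b h1, ?_⟩
      have h3 : Commute X (X * (Y * Y)) := (Commute.refl X).mul_right (hcXY.mul_right hcXY)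
      exact (h3.mul_left h2).mul_left h3.inv_left
    have c₁ : 4 ≤ Nat.card B₁ :=
      four_le (hB2.to_le inf_le_left) hb₁ (inv₁ _ hb₁) hb₁1 (hconj l lJ _ hb₁.1 hb₁1).2.1 (hconj l lJ _ hb₁.1 hb₁1).2.2
    have c₂ : 4 ≤ Nat.card B₂ :=
      four_le (hB2.to_le inf_le_left) hb₂ (inv₂ _ hb₂) hb₂1 (hconj l lJ _ hb₂.1 hb₂1).2.1 (hconj l lJ _ hb₂.1 hb₂1).2.2
    have disj : ∀ b, b ∈ B₁ → b ∈ B₂ → b = 1 := by
      intro b h1 h2
      obtain ⟨k1, k2⟩ := (m₁ b).1 h1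
      obtain ⟨-, k3⟩ := (m₂ b).1 h2
      refine hJ m mJ b k1 ?_
      have h3 : Y = (X * Y)⁻¹ * (X * (Y * Y)) := by group
      rw [← hY, h3]
      exact k2.inv_right.mul_right k3
    have hcard : 16 ≤ Nat.card B := by
      have h1 : Nat.card (B₁ × B₂) ≤ Nat.card B := by
        refine Nat.card_le_card_of_injective
          (fun p => (⟨(p.1 : ↥(NG (KQ S Q (z o)))) * p.2, mul_mem p.1.2.1 p.2.2.1⟩ : B)) ?_
        rintro ⟨p, q⟩ ⟨p', q'⟩ hpq
        have e : (p : ↥(NG (KQ S Q (z o)))) * q = p' * q' := congrArg Subtype.val hpq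
        have e2 : (p' : ↥(NG (KQ S Q (z o))))⁻¹ * p = q' * (q : ↥(NG (KQ S Q (z o))))⁻¹ := by
          rw [eq_mul_inv_iff_mul_eq, mul_assoc, e]; group
        have h0 : (p' : ↥(NG (KQ S Q (z o))))⁻¹ * p = 1 :=
          disj _ (mul_mem (inv_mem p'.2) p.2) (by rw [e2]; exact mul_mem q'.2 (inv_mem q.2))
        have hp : p = p' := Subtype.ext (inv_mul_eq_one.1 h0).symm
        rw [h0, eq_comm, mul_inv_eq_one] at e2
        have hq : q = q' := Subtype.ext e2.symm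
        rw [hp, hq]
      rw [Nat.card_prod] at h1
      calc 16 = 4 * 4 := by norm_num
        _ ≤ Nat.card B₁ * Nat.card B₂ := Nat.mul_le_mul c₁ c₂
        _ ≤ _ := h1
    have hJc : J.card = 2 := by
      have : J = {l, m} := by
        ext a
        rw [Finset.mem_insert, Finset.mem_singleton]
        exact ⟨hlmJ a, fun h => h.elim (fun h => h ▸ lJ) (fun h => h ▸ mJ)⟩
      rw [this, Finset.card_pair hlm]
    refine ⟨Ap S Q (z o) B, J, ho, Or.inr hJc, fun g hg => Wp_le (mem_Ap.1 hg).1,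
      fun a ha => D.Ap_le_C fun c hc => hfix a ha c hc, fun j hj => ?_⟩
    rw [hJc]
    refine (le_of_eq_of_le (by norm_num) hcard).trans (D.card_le_relIndex hBH fun c hc hcj => ?_)
    by_contra hc1
    rcases hlmJ j hj with rfl | rfl
    · exact hl c hc hc1 hcj
    · exact hm c hc hc1 hcj

end

end DatD

end Cfsg.Agent.Omega.IId.ThmCD

end

section


/-!
# THEOREM C for natural factors, `q = 2`, arbitrary `D` (bb OMEGA 19448)

`DatD.le_S` : `O₂(C_G(z o)) ≤ S`;  `DatD.le_S0` : it lies in `⋂ N_S(Z l)`;  `DatD.le_C` : it centralises `Z l`-parts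
`⟨z l ^ ⟨x l⟩⟩`, `l ≠ o`.
-/

set_option autoImplicit false

namespace Cfsg.Agent.Omega.IId.ThmCD

open Subgroup Cfsg Cfsg.Agent.MinSimple.VModule Cfsg.Agent.Omega.ThmC
open Cfsg.Agent.ZN (zc o2)

universe u

variable {G : Type u} [Group G]

namespace DatD

variable {S : Sylow 2 G} {Q : Subgroup G} {ι : Type} {Z : ι → Subgroup G} {x z : ι → G}

variable [Finite G] [Finite ι] (D : DatD S Q Z x z)

include D

/-- **THEOREM C**, `q = 2`, arbitrary `D`. -/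
theorem le_S (o : ι) : o2 (centralizer {z o}) ≤ (S : Subgroup G) := by
  classical
  by_contra h
  obtain ⟨A, J, ho, hJ, hA, hAl, hi⟩ := D.out h
  refine count S z (fun l m h => D.z_inj h) (fun s hs l => ⟨_, D.z_conj hs l⟩) (fun l m => ?_) o A J ho hJ hA hAl hi
  obtain ⟨s, hs, h⟩ := D.trans l m
  exact ⟨s, hs, by rw [D.z_conj hs, D.sg_eq' hs h]⟩

theorem le_S0 (o : ι) : o2 (centralizer {z o}) ≤ S0 (S : Subgroup G) Z := fun _ hw =>
  D.inf_le_S0 (o := o) (mem_inf.2 ⟨hw, D.le_S o hw⟩)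

/-- `O₂(C_G(z o))` commutes with `x l`, `l ≠ o`, on `Ω₁Z(Q)` -/
theorem comm {o l : ι} (hl : l ≠ o) {w v : G} (hw : w ∈ o2 (centralizer ({z o} : Set G))) (hv : v ∈ zc Q) :
    w * (x l * v * (x l)⁻¹) * w⁻¹ = x l * (w * v * w⁻¹) * (x l)⁻¹ :=
  D.comm_x' hw (D.le_S o hw) hl hv

end DatD

end Cfsg.Agent.Omega.IId.ThmCD

end
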