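import Cfsg.Agent.Mrg.Omega.ThmC.TwoOf
import Cfsg.Agent.Mrg.Omega.IId.ThmCD.Out
import Cfsg.Agent.Mrg.Omega.IId.Cv.Half

section


/-!
# DATA for THEOREM C with `D` (bb OMEGA 19448): `Ω₁Z(Q)` of a parabolic with factors of order 4

`BlkD S P Q V x z` : the copy of `IITwo.Three.Blk` with `C_A(S) ≤ (∏ V l) × C_A(x l : l)`;
`BlkD.nh_nh` : the projections onto `[A, x l]` are orthogonal;
`BlkD.dat : BlkD S P Q V x z → DatD S Q ML x z`.
-/

set_option autoImplicit false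
set_option linter.unusedSectionVars false

namespace Cfsg.Agent.Omega.IId.ThmCD

open Subgroup Cfsg Cfsg.Agent.ZN Cfsg.Agent.MinSimple.VModule
open Cfsg.Agent.Omega.IITwo
open Cfsg.Agent.Omega.IITwo.Count (Three conj_mem conj_mem')
open Cfsg.Agent.Omega.IITwo.Three (three_cases three_cycle four_all idem_eq_one zc_isMulCommutative)
open Cfsg.Agent.Omega.ThmC (pr)
open scoped IsMulCommutative

universe u

variable {G : Type u} [Group G]

/-- One side, `q = 2`: `A = Ω₁ Z(Q) = zc Q` with `Q = O₂(P)`, blocks `V l` of order 4 permuted by `P` and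
transitively by `S`, `x l` of order 3 on `V l` and trivial on the other blocks, `C_A(S) ≤ (∏ V l) × D`. -/
structure BlkD {ι : Type*} (S P Q : Subgroup G) (V : ι → Subgroup G) (x z : ι → G) : Prop where
  SP : S ≤ P
  S2 : IsPGroup 2 S
  QS : Q ≤ S
  PQ : P ≤ normalizer (Q : Set G)
  VA : ∀ l, V l ≤ zc Q
  four : ∀ l, Nat.card (V l) = 4
  perm : ∀ g ∈ P, ∀ l, ∃ m, (V l).map (MulAut.conj g).toMonoidHom = V m
  inj : ∀ l m, V l = V m → l = m
  tr : ∀ l m, ∃ s ∈ S, (V l).map (MulAut.conj s).toMonoidHom = V m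
  xP : ∀ l, x l ∈ P
  xn : ∀ l, x l ∈ normalizer (V l : Set G)
  x3 : ∀ l, Three (V l) (x l)
  xc : ∀ l i, i ≠ l → ∀ v ∈ V i, x l * v = v * x l
  ker : ∀ g ∈ P, (∀ l, ∀ v ∈ V l, g * v = v * g) → ∀ a ∈ zc Q, g * a = a * g
  fix : ∀ a ∈ zc Q, (∀ s ∈ S, s * a = a * s) →
    ∃ v ∈ ⨆ l, V l, ∃ d ∈ zc Q, (∀ l, x l * d = d * x l) ∧ a = v * d
  zV : ∀ l, z l ∈ V l
  z1 : ∀ l, z l ≠ 1
  zf : ∀ l, ∀ v ∈ V l, (∀ t ∈ S, t ∈ normalizer (V l : Set G) → t * v = v * t) → v = 1 ∨ v = z l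
  inv : ∀ l, ∃ a ∈ S, (∀ v ∈ V l, (a * x l * a⁻¹) * v * (a * x l * a⁻¹)⁻¹ = (x l)⁻¹ * v * x l) ∧
    ∀ m, m ≠ l → ∀ v ∈ V m, a * v = v * a

namespace BlkD

variable {ι : Type*} {S P Q : Subgroup G} {V : ι → Subgroup G} {x z : ι → G}

section
variable (B : BlkD S P Q V x z)
include B

theorem PA : P ≤ normalizer (zc Q : Set G) := B.PQ.trans (MinSimple.VModule.normalizer_le_normalizer_zc Q)

theorem sq {l : ι} {v : G} (hv : v ∈ V l) : v * v = 1 := by
  have := zc_sq Q v (B.VA l hv)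
  rwa [pow_two] at this

theorem comm {i l : ι} {u v : G} (hu : u ∈ V i) (hv : v ∈ V l) : u * v = v * u :=
  zc_comm Q u (B.VA i hu) v (B.VA l hv)

end

/-- conjugation by `g ∈ P` on `A = zc Q`. -/
def cj (B : BlkD S P Q V x z) (g : P) : zc Q →* zc Q :=
  (normalizerMonoidHom (zc Q) ⟨g, B.PA g.2⟩).toMonoidHom

theorem cj_coe (B : BlkD S P Q V x z) (g : P) (a : zc Q) :
    ((B.cj g a : zc Q) : G) = g * a * (g : G)⁻¹ := rfl

/-- the projection onto `[A, x l]`. -/
def nh (B : BlkD S P Q V x z) (l : ι) : zc Q →* zc Q :=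
  B.cj ⟨x l, B.xP l⟩ * B.cj (⟨x l, B.xP l⟩ : P)⁻¹

theorem nh_coe (B : BlkD S P Q V x z) (l : ι) (a : zc Q) :
    ((B.nh l a : zc Q) : G) = x l * a * (x l)⁻¹ * ((x l)⁻¹ * a * x l) := by
  change ((B.cj ⟨x l, B.xP l⟩ a * B.cj (⟨x l, B.xP l⟩ : P)⁻¹ a : zc Q) : G) = _
  rw [Subgroup.coe_mul, cj_coe, cj_coe]
  simp

section
variable (B : BlkD S P Q V x z)
include B

theorem cj_mul (g h : P) (a : zc Q) : B.cj (g * h) a = B.cj g (B.cj h a) := by
  apply Subtype.ext
  rw [cj_coe, cj_coe, cj_coe]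
  push_cast
  group

/-- elements of `P` which agree on the blocks agree on `A`. -/
theorem cj_eq {g h : P} (hgh : ∀ l, ∀ v ∈ V l, (g : G) * v * (g : G)⁻¹ = h * v * (h : G)⁻¹) :
    B.cj g = B.cj h := by
  ext a
  rw [cj_coe, cj_coe]
  have h1 := B.ker ((h : G)⁻¹ * g) (mul_mem (inv_mem h.2) g.2) (by
    intro l v hv
    calc (h : G)⁻¹ * g * v = (h : G)⁻¹ * (g * v * (g : G)⁻¹) * g := by group
      _ = (h : G)⁻¹ * (h * v * (h : G)⁻¹) * g := by rw [hgh l v hv]
      _ = v * ((h : G)⁻¹ * g) := by group) a a.2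
  calc (g : G) * a * (g : G)⁻¹ = h * ((h : G)⁻¹ * g * a) * (g : G)⁻¹ := by group
    _ = h * (a * ((h : G)⁻¹ * g)) * (g : G)⁻¹ := by rw [h1]
    _ = h * a * (h : G)⁻¹ := by group

/-- `x l` as an element of `P`. -/
theorem cj_three (l : ι) (a : zc Q) :
    B.cj ⟨x l, B.xP l⟩ (B.cj ⟨x l, B.xP l⟩ (B.cj ⟨x l, B.xP l⟩ a)) = a := by
  rw [← cj_mul, ← cj_mul, B.cj_eq (h := 1)]
  · apply Subtype.ext
    rw [cj_coe]
    simp
  · intro i v hv
    by_cases hi : i = l
    · subst hi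
      have h1 := Count.cube_of_three (B.xn i) (B.x3 i) (fun u hu w hw => B.comm hu hw) hv
      calc ((⟨x i, B.xP i⟩ * ⟨x i, B.xP i⟩ * ⟨x i, B.xP i⟩ : P) : G) * v *
            ((⟨x i, B.xP i⟩ * ⟨x i, B.xP i⟩ * ⟨x i, B.xP i⟩ : P) : G)⁻¹
          = x i * (x i * (x i * v * (x i)⁻¹) * (x i)⁻¹) * (x i)⁻¹ := by push_cast; group
        _ = v := h1
        _ = ((1 : P) : G) * v * ((1 : P) : G)⁻¹ := by simp
    · have h1 : x l * v * (x l)⁻¹ = v := by rw [B.xc l i hi v hv]; group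
      calc ((⟨x l, B.xP l⟩ * ⟨x l, B.xP l⟩ * ⟨x l, B.xP l⟩ : P) : G) * v *
            ((⟨x l, B.xP l⟩ * ⟨x l, B.xP l⟩ * ⟨x l, B.xP l⟩ : P) : G)⁻¹
          = x l * (x l * (x l * v * (x l)⁻¹) * (x l)⁻¹) * (x l)⁻¹ := by push_cast; group
        _ = v := by rw [h1, h1, h1]
        _ = ((1 : P) : G) * v * ((1 : P) : G)⁻¹ := by simp

theorem cj_inv (g : P) (a : zc Q) : B.cj g⁻¹ (B.cj g a) = a := by
  rw [← cj_mul]
  apply Subtype.ext
  rw [cj_coe]
  simp

theorem cj_inv' (g : P) (a : zc Q) : B.cj g (B.cj g⁻¹ a) = a := by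
  rw [← cj_mul]
  apply Subtype.ext
  rw [cj_coe]
  simp

theorem cj_xinv (l : ι) (a : zc Q) :
    B.cj (⟨x l, B.xP l⟩ : P)⁻¹ a = B.cj ⟨x l, B.xP l⟩ (B.cj ⟨x l, B.xP l⟩ a) := by
  conv_lhs => rw [← B.cj_three l a]
  rw [cj_inv]

theorem nh_apply (l : ι) (a : zc Q) :
    B.nh l a = B.cj ⟨x l, B.xP l⟩ a * B.cj ⟨x l, B.xP l⟩ (B.cj ⟨x l, B.xP l⟩ a) := by
  rw [← B.cj_xinv]
  rfl

omit B in
theorem sq_zc (a : zc Q) : a * a = 1 := by
  apply Subtype.ext
  have := zc_sq Q a a.2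
  rwa [pow_two] at this

theorem nh_idem (l : ι) (a : zc Q) : B.nh l (B.nh l a) = B.nh l a := by
  rw [B.nh_apply l (B.nh l a), B.nh_apply l a, map_mul, map_mul, B.cj_three]
  set u := B.cj ⟨x l, B.xP l⟩ a
  set v := B.cj ⟨x l, B.xP l⟩ u
  have h1 : a * a = 1 := sq_zc a
  rw [mul_assoc, ← mul_assoc a a u, h1, one_mul, mul_comm]

theorem cj_comm (i l : ι) (a : zc Q) :
    B.cj ⟨x i, B.xP i⟩ (B.cj ⟨x l, B.xP l⟩ a) = B.cj ⟨x l, B.xP l⟩ (B.cj ⟨x i, B.xP i⟩ a) := by
  by_cases hil : i = l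
  · subst hil; rfl
  rw [← cj_mul, ← cj_mul, B.cj_eq (h := ⟨x l, B.xP l⟩ * ⟨x i, B.xP i⟩)]
  intro j v hv
  have key : ∀ i l, i ≠ l → ∀ v ∈ V i, x i * (x l * v * (x l)⁻¹) * (x i)⁻¹ =
      x l * (x i * v * (x i)⁻¹) * (x l)⁻¹ := by
    intro i l hil v hv
    rw [B.xc l i hil v hv, B.xc l i hil _ (conj_mem (B.xn i) hv)]
    group
  have e1 : ∀ i l (v : G), ((⟨x i, B.xP i⟩ * ⟨x l, B.xP l⟩ : P) : G) * v *
      ((⟨x i, B.xP i⟩ * ⟨x l, B.xP l⟩ : P) : G)⁻¹ = x i * (x l * v * (x l)⁻¹) * (x i)⁻¹ := by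
    intro i l v
    push_cast
    group
  rw [e1, e1]
  by_cases hji : j = i
  · subst hji
    exact key j l hil v hv
  · by_cases hjl : j = l
    · subst hjl
      exact (key j i (Ne.symm hil) v hv).symm
    · rw [B.xc l j hjl v hv, B.xc i j hji v hv]
      have h2 : v * x l * (x l)⁻¹ = v := by group
      have h3 : v * x i * (x i)⁻¹ = v := by group
      rw [h2, h3, B.xc l j hjl v hv, B.xc i j hji v hv]
      group

theorem nh_comm (i l : ι) (a : zc Q) : B.nh i (B.nh l a) = B.nh l (B.nh i a) := by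
  have h1 := fun b => B.cj_comm i l b
  simp only [B.nh_apply, map_mul, h1]
  exact mul_mul_mul_comm _ _ _ _

omit B in
theorem mem_of_map {g : G} {l m : ι} (h : (V l).map (MulAut.conj g).toMonoidHom = V m) {u : G}
    (hu : u ∈ V l) : g * u * g⁻¹ ∈ V m := by
  rw [← h]
  exact ⟨u, hu, by simp⟩

omit B in
theorem mem_of_map' {g : G} {l m : ι} (h : (V l).map (MulAut.conj g).toMonoidHom = V m) {v : G}
    (hv : v ∈ V m) : g⁻¹ * v * g ∈ V l := by
  rw [← h] at hv
  obtain ⟨u, hu, rfl⟩ := hv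
  have : g⁻¹ * (MulAut.conj g).toMonoidHom u * g = u := by simp [mul_assoc]
  rw [this]
  exact hu

omit B in
theorem map_inv_of_map {g : G} {l m : ι} (h : (V l).map (MulAut.conj g).toMonoidHom = V m) :
    (V m).map (MulAut.conj g⁻¹).toMonoidHom = V l := by
  apply le_antisymm
  · rintro _ ⟨v, hv, rfl⟩
    have := mem_of_map' h hv
    simpa using this
  · intro u hu
    exact ⟨g * u * g⁻¹, mem_of_map h hu, by simp [mul_assoc]⟩

/-- the conjugate of `x l` by `g ∈ P` acts on `A` as `x m` or `(x m)⁻¹`. -/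
theorem cj_conj_x [Finite G] {g : P} {l m : ι}
    (h : (V l).map (MulAut.conj (g : G)).toMonoidHom = V m) :
    B.cj (g * ⟨x l, B.xP l⟩ * g⁻¹) = B.cj ⟨x m, B.xP m⟩ ∨
      B.cj (g * ⟨x l, B.xP l⟩ * g⁻¹) = B.cj (⟨x m, B.xP m⟩ : P)⁻¹ := by
  -- the conjugate of `x l`
  have hfn : (g : G) * x l * (g : G)⁻¹ ∈ normalizer (V m : Set G) := by
    refine Count.mem_norm fun v hv => ?_
    have h1 := mem_of_map h (conj_mem (B.xn l) (mem_of_map' h hv))
    have h2 : (g : G) * (x l * ((g : G)⁻¹ * v * g) * (x l)⁻¹) * (g : G)⁻¹ =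
        (g : G) * x l * (g : G)⁻¹ * v * ((g : G) * x l * (g : G)⁻¹)⁻¹ := by group
    rwa [h2] at h1
  have hf3 : Three (V m) ((g : G) * x l * (g : G)⁻¹) := by
    intro v hv
    have h1 := B.x3 l _ (mem_of_map' h hv)
    have h2 : v * ((g : G) * x l * (g : G)⁻¹ * v * ((g : G) * x l * (g : G)⁻¹)⁻¹) *
        ((g : G) * x l * (g : G)⁻¹ * ((g : G) * x l * (g : G)⁻¹ * v * ((g : G) * x l * (g : G)⁻¹)⁻¹) *
          ((g : G) * x l * (g : G)⁻¹)⁻¹) =
        (g : G) * (((g : G)⁻¹ * v * g) * (x l * ((g : G)⁻¹ * v * g) * (x l)⁻¹) *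
          (x l * (x l * ((g : G)⁻¹ * v * g) * (x l)⁻¹) * (x l)⁻¹)) * (g : G)⁻¹ := by group
    rw [h2, h1]
    group
  -- trivial on the other blocks
  have hoth : ∀ i, i ≠ m → ∀ v ∈ V i, (g : G) * x l * (g : G)⁻¹ * v * ((g : G) * x l * (g : G)⁻¹)⁻¹ = v := by
    intro i hi v hv
    obtain ⟨i', hi'⟩ := B.perm (g : G)⁻¹ (inv_mem g.2) i
    have hne : i' ≠ l := by
      rintro rfl
      apply hi
      have h1 := map_inv_of_map hi'
      rw [inv_inv] at h1
      exact B.inj _ _ (h1.symm.trans h)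
    have h1 : (g : G)⁻¹ * v * g ∈ V i' := by
      have := mem_of_map hi' hv
      rwa [inv_inv] at this
    have h2 := B.xc l i' hne _ h1
    calc (g : G) * x l * (g : G)⁻¹ * v * ((g : G) * x l * (g : G)⁻¹)⁻¹
        = (g : G) * (x l * ((g : G)⁻¹ * v * g)) * (x l)⁻¹ * (g : G)⁻¹ := by group
      _ = (g : G) * (((g : G)⁻¹ * v * g) * x l) * (x l)⁻¹ * (g : G)⁻¹ := by rw [h2]
      _ = v := by group
  have hoth2 : ∀ i, i ≠ m → ∀ v ∈ V i, x m * v * (x m)⁻¹ = v := by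
    intro i hi v hv
    rw [B.xc m i hi v hv]; group
  have hoth3 : ∀ i, i ≠ m → ∀ v ∈ V i, (x m)⁻¹ * v * (x m) = v := by
    intro i hi v hv
    have h1 := B.xc m i hi v hv
    rw [mul_assoc, ← h1]; group
  rcases three_cases (B.four m) (fun u hu => B.sq hu) (fun u hu v hv => B.comm hu hv) (B.xn m)
    (B.x3 m) hfn hf3 with hc | hc
  · left
    refine B.cj_eq ?_
    intro i v hv
    by_cases him : i = m
    · subst him
      exact hc v hv
    · exact (hoth i him v hv).trans (hoth2 i him v hv).symm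
  · right
    refine B.cj_eq ?_
    intro i v hv
    have h3 : (((⟨x m, B.xP m⟩ : P)⁻¹ : P) : G) * v * (((⟨x m, B.xP m⟩ : P)⁻¹ : P) : G)⁻¹ =
        (x m)⁻¹ * v * x m := by push_cast; group
    rw [h3]
    by_cases him : i = m
    · subst him
      exact hc v hv
    · exact (hoth i him v hv).trans (hoth3 i him v hv).symm

/-- equivariance of the projections. -/
theorem cj_nh [Finite G] {g : P} {l m : ι} (h : (V l).map (MulAut.conj (g : G)).toMonoidHom = V m)
    (a : zc Q) : B.cj g (B.nh l a) = B.nh m (B.cj g a) := by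
  have e0 : B.cj g (B.cj (⟨x l, B.xP l⟩ : P) a) = B.cj (g * ⟨x l, B.xP l⟩ * g⁻¹) (B.cj g a) := by
    rw [← cj_mul, ← cj_mul]; congr 1; group
  have e1 : B.cj g (B.cj (⟨x l, B.xP l⟩ : P)⁻¹ a) = B.cj (g * ⟨x l, B.xP l⟩ * g⁻¹)⁻¹ (B.cj g a) := by
    rw [← cj_mul, ← cj_mul]; congr 1; group
  have e2 : B.cj g (B.nh l a) = B.cj (g * ⟨x l, B.xP l⟩ * g⁻¹) (B.cj g a) *
      B.cj (g * ⟨x l, B.xP l⟩ * g⁻¹)⁻¹ (B.cj g a) := by
    rw [← e0, ← e1, ← map_mul]
    rfl
  have einv : ∀ p q : P, B.cj p = B.cj q → B.cj p⁻¹ = B.cj q⁻¹ := by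
    intro p q hpq
    ext b
    have h1 : B.cj p⁻¹ b = B.cj q⁻¹ b := by
      conv_lhs => rw [← B.cj_inv' q b, ← hpq]
      rw [cj_inv]
    rw [h1]
  rcases B.cj_conj_x h with h1 | h1
  · rw [e2, einv _ _ h1, h1]
    rfl
  · rw [e2, einv _ _ h1, h1, inv_inv, mul_comm]
    rfl

/-- `nh l` is the identity on `V l`. -/
theorem nh_self {l : ι} {v : zc Q} (hv : (v : G) ∈ V l) : B.nh l v = v := by
  apply Subtype.ext
  rw [nh_coe]
  have h3 := B.x3 l v hv
  have h4 := Count.cube_of_three (B.xn l) (B.x3 l) (fun u hu w hw => B.comm hu hw) hv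
  have h5 : (x l)⁻¹ * (v : G) * x l = x l * (x l * v * (x l)⁻¹) * (x l)⁻¹ := by
    conv_lhs => rw [← h4]
    group
  rw [h5]
  have h6 : (v : G) * v = 1 := B.sq hv
  have h7 : (v : G) * (v * ((x l * v * (x l)⁻¹) * (x l * (x l * v * (x l)⁻¹) * (x l)⁻¹))) = v := by
    rw [← mul_assoc (v : G) (x l * v * (x l)⁻¹), h3, mul_one]
  rw [← mul_assoc, h6, one_mul] at h7
  exact h7

/-- `nh l` is trivial on `V i`, `i ≠ l`. -/
theorem nh_other {i l : ι} (hil : i ≠ l) {v : zc Q} (hv : (v : G) ∈ V i) : B.nh l v = 1 := by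
  apply Subtype.ext
  rw [nh_coe]
  have h1 := B.xc l i hil v hv
  have h2 : x l * (v : G) * (x l)⁻¹ = v := by rw [h1]; group
  have h3 : (x l)⁻¹ * (v : G) * x l = v := by rw [mul_assoc, ← h1]; group
  rw [h2, h3]
  exact B.sq hv

/-- `nh l a = 1` iff `x l` centralises `a`. -/
theorem nh_eq_one {l : ι} {a : zc Q} : B.nh l a = 1 ↔ x l * (a : G) = a * x l := by
  constructor
  · intro h
    rw [nh_apply] at h
    have h1 := congrArg (B.cj ⟨x l, B.xP l⟩) h
    rw [map_one, map_mul, B.cj_three] at h1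
    have h2 : B.cj ⟨x l, B.xP l⟩ (B.cj ⟨x l, B.xP l⟩ a) = a⁻¹ := eq_inv_of_mul_eq_one_left h1
    have h3 : a⁻¹ = a := inv_eq_of_mul_eq_one_right (sq_zc a)
    rw [h3] at h2
    have h4 : B.cj ⟨x l, B.xP l⟩ a = a := by
      conv_lhs => rw [← h2]
      exact B.cj_three l a
    have h5 : x l * (a : G) * (x l)⁻¹ = a := congrArg Subtype.val h4
    calc x l * (a : G) = x l * a * (x l)⁻¹ * x l := by group
      _ = a * x l := by rw [h5]
  · intro h
    apply Subtype.ext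
    rw [nh_coe]
    have h2 : x l * (a : G) * (x l)⁻¹ = a := by rw [h]; group
    have h3 : (x l)⁻¹ * (a : G) * x l = a := by rw [mul_assoc, ← h]; group
    rw [h2, h3]
    exact congrArg Subtype.val (sq_zc a)

omit B in
theorem of_V {K : Subgroup (zc Q)} (hV : ∀ l, V l ≤ zc Q) (h : ∀ i, ∀ v : zc Q, (v : G) ∈ V i → v ∈ K)
    {w : zc Q} (hw : (w : G) ∈ ⨆ l, V l) : w ∈ K := by
  have h1 : ⨆ l, V l ≤ K.map (zc Q).subtype := by
    refine iSup_le fun i v hv => ?_
    exact ⟨⟨v, hV i hv⟩, h i _ hv, rfl⟩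
  obtain ⟨u, hu, huw⟩ := h1 hw
  have : u = w := Subtype.ext huw
  rwa [← this]

/-- `nh i ∘ nh l`, `i ≠ l`, kills `V` and `D`. -/
theorem nh_nh_fix {i l : ι} (hil : i ≠ l) {a : zc Q} (ha : ∀ s ∈ S, s * (a : G) = a * s) :
    B.nh i (B.nh l a) = 1 := by
  obtain ⟨v, hv, d, hd, hdx, h⟩ := B.fix a a.2 ha
  have hvA : v ∈ zc Q := (iSup_le B.VA : ⨆ l, V l ≤ zc Q) hv
  have h1 : (⟨v, hvA⟩ : zc Q) ∈ ((B.nh i).comp (B.nh l)).ker := by
    refine of_V B.VA ?_ hv
    intro j w hw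
    rw [MonoidHom.mem_ker, MonoidHom.comp_apply]
    by_cases hjl : j = l
    · subst hjl
      rw [B.nh_self hw, B.nh_other (Ne.symm hil) hw]
    · rw [B.nh_other hjl hw, map_one]
  have h2 : B.nh l (⟨d, hd⟩ : zc Q) = 1 := B.nh_eq_one.mpr (hdx l)
  have h3 : a = ⟨v, hvA⟩ * ⟨d, hd⟩ := Subtype.ext h
  rw [MonoidHom.mem_ker, MonoidHom.comp_apply] at h1
  rw [h3, map_mul, map_mul, h1, h2, map_one, one_mul]

/-- the projections are orthogonal. -/
theorem nh_nh [Finite G] [Finite ι] {i l : ι} (hil : i ≠ l) (a : zc Q) : B.nh i (B.nh l a) = 1 := by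
  classical
  have := Fintype.ofFinite ι
  set E : ι × ι → zc Q →* zc Q := fun p => (B.nh p.1).comp (B.nh p.2) with hE
  have hEa : ∀ p a, E p a = B.nh p.1 (B.nh p.2 a) := fun _ _ => rfl
  have hc : ∀ p q a, E p (E q a) = E q (E p a) := by
    intro p q a
    rw [hEa, hEa, hEa, hEa, B.nh_comm p.2 q.1, B.nh_comm p.1 q.1, B.nh_comm p.2 q.2, B.nh_comm p.1 q.2]
  have hi : ∀ p a, E p (E p a) = E p a := by
    intro p a
    rw [hEa, hEa, B.nh_comm p.2 p.1, B.nh_idem, B.nh_idem]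
  set s : Finset (ι × ι) := Finset.univ.filter fun p => p.1 ≠ p.2 with hs
  set K : Subgroup (zc Q) := ⨆ p ∈ s, (E p).range with hK
  have hEK : ∀ p ∈ s, ∀ a, E p a ∈ K := fun p hp a =>
    (le_iSup₂ (f := fun p (_ : p ∈ s) => (E p).range) p hp) ⟨a, rfl⟩
  by_contra hne
  have hbK : B.nh i (B.nh l a) ∈ K := hEK (i, l) (by rw [hs, Finset.mem_filter]; exact ⟨Finset.mem_univ _, hil⟩) a
  have hKb : K.map (zc Q).subtype ≠ ⊥ := by
    intro h
    have h1 : ((B.nh i (B.nh l a) : zc Q) : G) ∈ K.map (zc Q).subtype := ⟨_, hbK, rfl⟩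
    rw [h, mem_bot] at h1
    exact hne (Subtype.ext h1)
  have hA2 : IsPGroup 2 (zc Q) := by
    rintro ⟨a, ha⟩
    exact ⟨1, Subtype.ext (by simpa using zc_sq Q a ha)⟩
  have hinv : ∀ g : P, ∀ b ∈ K, B.cj g b ∈ K := by
    intro g b hb
    have h1 : K ≤ K.comap (B.cj g) := by
      rw [hK]
      refine iSup₂_le fun p hp => ?_
      rintro _ ⟨a, rfl⟩
      rw [mem_comap, ← hK, hEa]
      obtain ⟨m, hm⟩ := B.perm g g.2 p.1
      obtain ⟨n, hn⟩ := B.perm g g.2 p.2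
      rw [B.cj_nh hm, B.cj_nh hn]
      refine hEK (m, n) ?_ _
      rw [hs, Finset.mem_filter] at hp ⊢
      refine ⟨Finset.mem_univ _, fun h => hp.2 ?_⟩
      have h' : m = n := h
      subst h'
      exact B.inj _ _ (Subgroup.map_injective (MulAut.conj (g : G)).injective (hm.trans hn.symm))
    exact h1 hb
  have hSK : S ≤ normalizer ((K.map (zc Q).subtype : Subgroup G) : Set G) := by
    intro s hs
    refine Count.mem_norm ?_
    rintro _ ⟨a, ha, rfl⟩
    exact ⟨B.cj ⟨s, B.SP hs⟩ a, hinv _ a ha, rfl⟩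
  obtain ⟨v, ⟨v', hv', hvv⟩, hv1, hfix⟩ := Half.exists_fixed (hA2.to_le (map_subtype_le K)) hKb B.S2 hSK
  have hv'1 : v' = 1 := by
    refine idem_eq_one hc hi s v' hv' fun p hp => ?_
    rw [hs, Finset.mem_filter] at hp
    refine B.nh_nh_fix hp.2 fun t ht => ?_
    have h1 : (v' : G) = v := hvv
    rw [h1]
    calc t * v = t * v * t⁻¹ * t := by group
      _ = v * t := by rw [hfix t ht]
  apply hv1
  rw [← hvv, hv'1]
  rfl
omit B in
theorem map_mul_of_map {g h : G} {l m n : ι} (h1 : (V l).map (MulAut.conj h).toMonoidHom = V m)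
    (h2 : (V m).map (MulAut.conj g).toMonoidHom = V n) :
    (V l).map (MulAut.conj (g * h)).toMonoidHom = V n := by
  rw [← h2, ← h1, Subgroup.map_map]
  congr 1
  ext y
  simp [mul_assoc]

omit B in
theorem mem_norm_of_map [Finite G] {g : G} {l : ι} (h : (V l).map (MulAut.conj g).toMonoidHom = V l) :
    g ∈ normalizer (V l : Set G) := Count.mem_norm fun _ hx => mem_of_map h hx

omit B in
theorem map_of_mem_norm [Finite G] {g : G} {l : ι} (h : g ∈ normalizer (V l : Set G)) :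
    (V l).map (MulAut.conj g).toMonoidHom = V l := by
  refine eq_of_le_of_card_ge ?_ ?_
  · rintro _ ⟨v, hv, rfl⟩
    exact conj_mem h hv
  · rw [card_map_of_injective (MulAut.conj g).injective]

/-- `C_{[A, x l]}(N_S(V l)) ≤ ⟨z l⟩`. -/
theorem fixed [Finite G] [Finite ι] {l : ι} {a : zc Q} (ha : B.nh l a = a)
    (hT : ∀ t ∈ S, t ∈ normalizer (V l : Set G) → t * (a : G) = a * t) :
    (a : G) = 1 ∨ (a : G) = z l := by
  classical
  have := Fintype.ofFinite ι
  choose s hsS hsV using fun m => B.tr l m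
  set b : zc Q := ∏ m, B.cj ⟨s m, B.SP (hsS m)⟩ a with hb
  have hbS : ∀ (g : G) (hg : g ∈ S), B.cj ⟨g, B.SP hg⟩ b = b := by
    intro g hg
    choose σ hσ using B.perm g (B.SP hg)
    have hinj : Function.Injective σ := by
      intro m m' hmm
      have h1 := hσ m
      rw [hmm, ← hσ m'] at h1
      exact B.inj _ _ (Subgroup.map_injective (MulAut.conj g).injective h1)
    have hbij : Function.Bijective σ := Finite.injective_iff_bijective.mp hinj
    rw [hb, map_prod]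
    refine Fintype.prod_bijective σ hbij _ _ ?_
    intro m
    have h1 : (s (σ m))⁻¹ * (g * s m) ∈ S := mul_mem (inv_mem (hsS _)) (mul_mem hg (hsS m))
    have h2 : (s (σ m))⁻¹ * (g * s m) ∈ normalizer (V l : Set G) :=
      mem_norm_of_map (map_mul_of_map (map_mul_of_map (hsV m) (hσ m)) (map_inv_of_map (hsV (σ m))))
    have h3 := hT _ h1 h2
    apply Subtype.ext
    rw [cj_coe, cj_coe, cj_coe]
    change g * (s m * a * (s m)⁻¹) * g⁻¹ = s (σ m) * a * (s (σ m))⁻¹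
    calc g * (s m * a * (s m)⁻¹) * g⁻¹
        = s (σ m) * (((s (σ m))⁻¹ * (g * s m)) * a) * (g * s m)⁻¹ := by group
      _ = s (σ m) * (a * ((s (σ m))⁻¹ * (g * s m))) * (g * s m)⁻¹ := by rw [h3]
      _ = s (σ m) * a * (s (σ m))⁻¹ := by group
  have hnb : B.nh l b = a := by
    rw [hb, map_prod, Finset.prod_eq_single l]
    · have h1 : B.cj ⟨s l, B.SP (hsS l)⟩ a = a := by
        apply Subtype.ext
        rw [cj_coe]
        have h2 := hT (s l) (hsS l) (mem_norm_of_map (hsV l))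
        change s l * a * (s l)⁻¹ = a
        rw [h2]; group
      rw [h1, ha]
    · intro m _ hm
      obtain ⟨i, hi⟩ := B.perm (s m)⁻¹ (inv_mem (B.SP (hsS m))) l
      have hi' : (V i).map (MulAut.conj (s m)).toMonoidHom = V l := by
        have := map_inv_of_map hi
        rwa [inv_inv] at this
      have hil : i ≠ l := by
        rintro rfl
        exact hm (B.inj _ _ ((hsV m).symm.trans hi'))
      rw [← B.cj_nh (g := ⟨s m, B.SP (hsS m)⟩) hi', ← ha, B.nh_nh hil, map_one]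
    · intro h
      exact absurd (Finset.mem_univ l) h
  obtain ⟨v, hv, d, hd, hdx, h⟩ := B.fix b b.2 (fun g hg => by
    have h1 : g * (b : G) * g⁻¹ = b := congrArg Subtype.val (hbS g hg)
    calc g * (b : G) = g * b * g⁻¹ * g := by group
      _ = b * g := by rw [h1])
  have hvA : v ∈ zc Q := (iSup_le B.VA : ⨆ l, V l ≤ zc Q) hv
  have h1 : (⟨v, hvA⟩ : zc Q) ∈ ((V l).subgroupOf (zc Q)).comap (B.nh l) := by
    refine of_V B.VA ?_ hv
    intro i w hw
    rw [mem_comap, mem_subgroupOf]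
    by_cases hil : i = l
    · subst hil
      rw [B.nh_self hw]; exact hw
    · rw [B.nh_other hil hw]; exact one_mem _
  have h2 : B.nh l (⟨d, hd⟩ : zc Q) = 1 := B.nh_eq_one.mpr (hdx l)
  have h3 : b = ⟨v, hvA⟩ * ⟨d, hd⟩ := Subtype.ext h
  have h4 : a = B.nh l ⟨v, hvA⟩ := by rw [← hnb, h3, map_mul, h2, mul_one]
  have h5 : (a : G) ∈ V l := by rw [h4]; exact h1
  exact B.zf l a h5 hT

/-- `ML l = [Ω₁ Z(Q), x l]`. -/
def ML (B : BlkD S P Q V x z) (l : ι) : Subgroup G := (B.nh l).range.map (zc Q).subtype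

theorem mem_ML {l : ι} {v : G} : v ∈ B.ML l ↔ ∃ h : v ∈ zc Q, B.nh l ⟨v, h⟩ = ⟨v, h⟩ := by
  constructor
  · rintro ⟨_, ⟨a, rfl⟩, rfl⟩
    exact ⟨(B.nh l a).2, B.nh_idem l a⟩
  · rintro ⟨h, hv⟩
    exact ⟨⟨v, h⟩, ⟨⟨v, h⟩, hv⟩, rfl⟩

theorem V_le_ML (l : ι) : V l ≤ B.ML l := fun _ hv => B.mem_ML.mpr ⟨B.VA l hv, B.nh_self hv⟩

theorem ML_le (l : ι) : B.ML l ≤ zc Q := map_subtype_le _

theorem conj_ML [Finite G] {g : G} (hg : g ∈ P) {l m : ι}
    (h : (V l).map (MulAut.conj g).toMonoidHom = V m) {v : G} (hv : v ∈ B.ML l) :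
    g * v * g⁻¹ ∈ B.ML m := by
  obtain ⟨a, ⟨b, rfl⟩, rfl⟩ := hv
  exact ⟨B.cj ⟨g, hg⟩ (B.nh l b), ⟨B.cj ⟨g, hg⟩ b, (B.cj_nh (g := ⟨g, hg⟩) h b).symm⟩, rfl⟩

end

end BlkD

/-- **DATA.** -/
theorem BlkD.dat [Finite G] {S : Sylow 2 G} {P Q : Subgroup G} {ι : Type} [Finite ι]
    {V : ι → Subgroup G} {x z : ι → G} (B : BlkD (S : Subgroup G) P Q V x z)
    (hSC : (S : Subgroup G) ⊓ centralizer (zc Q : Set G) ≤ Q)
    (hCQ : centralizer (Q : Set G) ≤ Q) : DatD S Q B.ML x z where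
  QS := B.QS
  SQ := B.SP.trans B.PQ
  SC := hSC
  CQ := hCQ
  xQ := fun l => B.PQ (B.xP l)
  le := B.ML_le
  prj := fun l v hv => ⟨B.nh l ⟨v, hv⟩, ⟨⟨v, hv⟩, rfl⟩, by
    rw [B.nh_apply]
    rfl⟩
  nor := fun l v hv => B.conj_ML (B.xP l) (BlkD.map_of_mem_norm (B.xn l)) hv
  three := by
    intro l v hv
    obtain ⟨h, hv⟩ := B.mem_ML.mp hv
    rw [B.nh_apply] at hv
    have h1 : v = (x l * v * (x l)⁻¹) * (x l * (x l * v * (x l)⁻¹) * (x l)⁻¹) :=
      (congrArg Subtype.val hv).symm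
    have h2 : v * v = 1 := congrArg Subtype.val (BlkD.sq_zc (⟨v, h⟩ : zc Q))
    rw [mul_assoc, ← h1, h2]
  triv := by
    intro l m hlm v hv
    obtain ⟨h, hv⟩ := B.mem_ML.mp hv
    have h1 : B.nh l ⟨v, h⟩ = 1 := by rw [← hv]; exact B.nh_nh hlm _
    have h2 := B.nh_eq_one.mp h1
    change x l * v = v * x l at h2
    rw [h2]; group
  perm := by
    intro s hs l
    obtain ⟨m, hm⟩ := B.perm s (B.SP hs) l
    refine ⟨m, fun v hv => B.conj_ML (B.SP hs) hm hv, ?_⟩
    rcases B.cj_conj_x (g := ⟨s, B.SP hs⟩) hm with h | h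
    · left
      intro v hv
      exact congrArg (fun f : zc Q →* zc Q => ((f ⟨v, hv⟩ : zc Q) : G)) h
    · right
      intro v hv
      have h1 := congrArg (fun f : zc Q →* zc Q => ((f ⟨v, hv⟩ : zc Q) : G)) h
      change (s * x l * s⁻¹) * v * (s * x l * s⁻¹)⁻¹ = (x m)⁻¹ * v * (x m)⁻¹⁻¹ at h1
      rwa [inv_inv] at h1
  trans := by
    intro l m
    obtain ⟨s, hs, hsV⟩ := B.tr l m
    exact ⟨s, hs, fun v hv => B.conj_ML (B.SP hs) hsV hv⟩
  zm := fun l => B.V_le_ML l (B.zV l)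
  z1 := B.z1
  zfix := by
    intro l v hv hfix
    obtain ⟨h, hv'⟩ := B.mem_ML.mp hv
    exact B.fixed hv' (fun t ht htV => by
      have h1 := hfix t ht (fun w hw => B.conj_ML (B.SP ht) (BlkD.map_of_mem_norm htV) hw)
      change t * v = v * t
      calc t * v = t * v * t⁻¹ * t := by group
        _ = v * t := by rw [h1])
  inv := by
    intro l
    obtain ⟨a, ha, hal, ham⟩ := B.inv l
    have haP := B.SP ha
    have hml : ∀ m, m ≠ l → ∀ v ∈ V m, ∀ w ∈ V l, True := fun _ _ _ _ _ _ => trivial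
    have hi : ∀ m, m ≠ l → ∀ v ∈ V m, a⁻¹ * v * a = v := fun m hm v hv => by
      rw [mul_assoc, ← ham m hm v hv]; group
    have ham' : ∀ m, m ≠ l → ∀ v ∈ V m, a * v * a⁻¹ = v := fun m hm v hv => by
      rw [ham m hm v hv]; group
    -- `a` normalises `V l`
    obtain ⟨m', hm'⟩ := B.perm a haP l
    have hm'l : m' = l := by
      by_contra hne
      have h1 : a * z l * a⁻¹ ∈ V m' := BlkD.mem_of_map hm' (B.zV l)
      have h2 := hi m' hne _ h1
      have h3 : z l ∈ V m' := by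
        have : a⁻¹ * (a * z l * a⁻¹) * a = z l := by group
        rw [this] at h2
        rwa [← h2] at h1
      have h4 := B.nh_other hne (v := ⟨z l, B.VA l (B.zV l)⟩) h3
      rw [B.nh_self (B.zV l)] at h4
      exact B.z1 l (congrArg Subtype.val h4)
    subst hm'l
    refine ⟨a, ha, fun v hv => ?_, fun m hm v hv => ?_⟩
    · have h := B.cj_eq (g := ⟨a, haP⟩ * ⟨x m', B.xP m'⟩ * (⟨a, haP⟩ : P)⁻¹) (h := (⟨x m', B.xP m'⟩ : P)⁻¹) (by
        intro i w hw
        change (a * x m' * a⁻¹) * w * (a * x m' * a⁻¹)⁻¹ = (x m')⁻¹ * w * (x m')⁻¹⁻¹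
        rw [inv_inv]
        by_cases hil : i = m'
        · subst hil
          exact hal w hw
        · have h1 := hi i hil w hw
          have h2 := B.xc m' i hil w hw
          calc (a * x m' * a⁻¹) * w * (a * x m' * a⁻¹)⁻¹ = a * (x m' * (a⁻¹ * w * a)) * (x m')⁻¹ * a⁻¹ := by group
            _ = a * w * a⁻¹ := by rw [h1, h2]; group
            _ = w := ham' i hil w hw
            _ = (x m')⁻¹ * (x m' * w) := by group
            _ = (x m')⁻¹ * w * x m' := by rw [h2]; group)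
      have h1 := congrArg (fun f : zc Q →* zc Q => ((f ⟨v, hv⟩ : zc Q) : G)) h
      change (a * x m' * a⁻¹) * v * (a * x m' * a⁻¹)⁻¹ = (x m')⁻¹ * v * (x m')⁻¹⁻¹ at h1
      rwa [inv_inv] at h1
    · have h := B.cj_eq (g := ⟨a, haP⟩ * ⟨x m, B.xP m⟩ * (⟨a, haP⟩ : P)⁻¹) (h := (⟨x m, B.xP m⟩ : P)) (by
        intro i w hw
        change (a * x m * a⁻¹) * w * (a * x m * a⁻¹)⁻¹ = x m * w * (x m)⁻¹
        by_cases him : i = m
        · subst him
          have h1 := hi i hm w hw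
          have h3 := ham' i hm _ (conj_mem (B.xn i) hw)
          calc (a * x i * a⁻¹) * w * (a * x i * a⁻¹)⁻¹ = a * (x i * (a⁻¹ * w * a) * (x i)⁻¹) * a⁻¹ := by group
            _ = x i * w * (x i)⁻¹ := by rw [h1, h3]
        · have h2 := B.xc m i him w hw
          have h2' : x m * w * (x m)⁻¹ = w := by rw [h2]; group
          have h4 : a⁻¹ * w * a ∈ V i := by
            by_cases hil : i = m'
            · subst hil
              exact BlkD.mem_of_map' hm' hw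
            · rw [hi i hil w hw]; exact hw
          have h5 := B.xc m i him _ h4
          rw [h2']
          calc (a * x m * a⁻¹) * w * (a * x m * a⁻¹)⁻¹ = a * (x m * (a⁻¹ * w * a)) * (x m)⁻¹ * a⁻¹ := by group
            _ = w := by rw [h5]; group)
      exact congrArg (fun f : zc Q →* zc Q => ((f ⟨v, hv⟩ : zc Q) : G)) h

end Cfsg.Agent.Omega.IId.ThmCD

end

section


/-!
# THEOREM C for natural factors, `q = 2`, arbitrary `D` (bb OMEGA 19448): the instance from `NatD`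

`NV.exists_blkD` : the data for `M : NatD F S P V D k`, `|F| = 2`.
`NV.thmCD` : `O₂(C_G(z)) ≤ S` for `z` in the line of the factor `i`.
-/

set_option autoImplicit false
set_option linter.unusedSectionVars false

namespace Cfsg.Agent.Omega.IId.NV

open Subgroup Cfsg Cfsg.Agent.ZN Cfsg.Agent.ZN.ChoiceBase
open Cfsg.Agent.MinSimple.VModule hiding le_normalizer_zl normalizer_le_normalizer_zc
open Cfsg.Agent.Omega.MinPar Cfsg.Agent.Omega.FFThm
open Cfsg.Agent.Lib.SL2Mat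
open Cfsg.Agent.Omega.NatPair (ap ap_one ap_mul)
open Cfsg.Agent.Omega.IITwo.Count (Three)
open Cfsg.Agent.Omega.ThmC.TwoOf (two_cases centralizer_o2_le)

universe u

variable {G : Type u} [Group G] {F : Type} [Field F] {k : ℕ}

section

variable {S P V : Subgroup G} (M : NatV F S P V k)

theorem part_le_iSup (s : Finset (Fin k)) : part M (s : Set (Fin k)) ≤ ⨆ l, fac M l := by
  classical
  induction s using Finset.induction_on with
  | empty => rw [Finset.coe_empty, part_empty]; exact bot_le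
  | insert i s _ ih =>
    intro v hv
    obtain ⟨a, ha, h1, h2⟩ := exists_component M hv.1 i
    have h3 : a⁻¹ * v ∈ part M (s : Set (Fin k)) := by
      refine ⟨h2.1, fun j hj => ?_⟩
      by_cases hji : j = i
      · exact h2.2 j (fun h => h hji)
      · rw [M.mul _ (inv_mem ha.1) _ hv.1, e_inv M ha.1, Pi.add_apply, Pi.neg_apply,
          ha.2 j hji, hv.2 j (fun h => by
            rw [Finset.coe_insert, Set.mem_insert_iff] at h
            rcases h with h | h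
            · exact hji h
            · exact hj h), neg_zero, add_zero]
    have h4 : v = a * (a⁻¹ * v) := by group
    rw [h4]
    exact mul_mem ((le_iSup (fac M) i) ha) (ih h3)

theorem iSup_fac : ⨆ l, fac M l = V := by
  refine le_antisymm (iSup_le fun l => fac_le M l) ?_
  have h := part_le_iSup M Finset.univ
  rwa [Finset.coe_univ, part_univ] at h

/-- the matrix of order 3 -/
def mthree (F : Type) [Field F] [CharP F 2] : Matrix.SpecialLinearGroup (Fin 2) F :=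
  Lib.SL2Mat.mk 0 1 1 1 (by rw [zero_mul, one_mul, zero_sub]; exact CharTwo.neg_eq 1)

theorem ap_three [CharP F 2] (x : Fin 2 → F) :
    x + ap (mthree F) x + ap (mthree F) (ap (mthree F) x) = 0 := by
  have h4 : (2 : F) = 0 := CharTwo.two_eq_zero
  apply NatPair.ext2
  · simp only [Pi.add_apply, Pi.zero_apply, NatPair.ap_zero', NatPair.ap_one', mthree, mk_00, mk_01, mk_10, mk_11]
    linear_combination (x 0 + x 1) * h4
  · simp only [Pi.add_apply, Pi.zero_apply, NatPair.ap_zero', NatPair.ap_one', mthree, mk_00, mk_01, mk_10, mk_11]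
    linear_combination (x 0 + 2 * x 1) * h4

theorem up_three_inv [CharP F 2] : up (1 : F) * mthree F * (up 1)⁻¹ = (mthree F)⁻¹ := by
  have h4 : (2 : F) = 0 := CharTwo.two_eq_zero
  rw [mul_inv_eq_iff_eq_mul, eq_inv_mul_iff_mul_eq]
  refine ext_ent ?_ ?_ ?_ ?_ <;> simp only [ent_mul, mthree, mk_00, mk_01, mk_10, mk_11, up_00, up_01, up_10, up_11]
  · linear_combination (0 : F) * h4
  · linear_combination (0 : F) * h4
  · linear_combination h4
  · linear_combination h4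

open Classical in
/-- an element of order 3 on the factor `l`, inverted by an element of `S` -/
theorem exists_three_inv [CharP F 2] (hSP : S ≤ P) (l : Fin k) :
    ∃ g ∈ grp M {l}, Three (fac M l) g ∧ ∃ a ∈ S,
      (∀ v ∈ V, (a * g * a⁻¹) * v * (a * g * a⁻¹)⁻¹ = g⁻¹ * v * g) ∧
        ∀ m, m ≠ l → ∀ v ∈ fac M m, a * v = v * a := by
  obtain ⟨g, hg, h1⟩ := M.lift (Function.update 1 l (mthree F))
  obtain ⟨a, ha, h2⟩ := M.unip (Function.update 0 l 1)
  have haP := hSP ha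
  have hg' : g ∈ grp M {l} := ⟨hg, _, h1, fun j hj => Function.update_of_ne hj _ _⟩
  have ha' : a ∈ grp M {l} := ⟨haP, _, h2, fun j hj => by
    change up (Function.update (0 : Fin k → F) l 1 j) = 1
    rw [Function.update_of_ne hj, Pi.zero_apply, up_zero]⟩
  refine ⟨g, hg', fun v hv => ?_, a, ha, fun v hv => ?_, fun m hm v hv =>
    grp_comm M (Set.disjoint_singleton.2 (Ne.symm hm)) ha' hv⟩
  · have hn := grp_normalizes M {l} {l} hg'
    have h2 : g * v * g⁻¹ ∈ fac M l := (mem_normalizer_iff.1 hn v).1 hv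
    have h3 : g * (g * v * g⁻¹) * g⁻¹ ∈ fac M l := (mem_normalizer_iff.1 hn _).1 h2
    rw [← fac_eq_one M (mul_mem (mul_mem hv h2) h3), M.mul _ (mul_mem hv.1 h2.1) _ h3.1,
      M.mul _ hv.1 _ h2.1, Pi.add_apply, Pi.add_apply, h1.1 _ h2.1 l, h1.1 _ hv.1 l, Function.update_self]
    exact ap_three _
  · have e1 := acts_mul (M := M) (inv_mem haP) (acts_mul (M := M) hg h2 h1) (acts_inv (M := M) haP h2)
    have e2 := acts_inv (M := M) hg h1
    have hAP : a * g * a⁻¹ ∈ P := mul_mem (mul_mem haP hg) (inv_mem haP)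
    have e3 : g⁻¹ * v * g = g⁻¹ * v * g⁻¹⁻¹ := by rw [inv_inv]
    rw [e3]
    refine e_inj M (cj_mem M hAP hv) (cj_mem M (inv_mem hg) hv) (funext fun i => ?_)
    rw [e1.1 v hv i, e2.1 v hv i]
    congr 1
    simp only [Pi.mul_apply, Pi.inv_apply]
    by_cases hi : i = l
    · subst hi
      rw [Function.update_self, Function.update_self]
      exact up_three_inv
    · rw [Function.update_of_ne hi, Function.update_of_ne hi, Pi.one_apply, Pi.zero_apply, up_zero, mul_one,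
        inv_one, mul_one]

/-- The vector of the line. -/
theorem exists_z (l : Fin k) : ∃ z ∈ line M l, z ≠ 1 ∧ M.e z l 0 = 1 := by
  obtain ⟨v, hv, h⟩ := exists_fac M l ![1, 0]
  refine ⟨v, (mem_line M).2 ⟨hv, by rw [h]; rfl⟩, fun h1 => ?_, by rw [h]; rfl⟩
  rw [h1, e_one] at h
  have := congrFun h 0
  simp at this

theorem line_casesV (hF : Nat.card F = 2) {l : Fin k} {z : G} (hz : z ∈ line M l) (hz1 : z ≠ 1) {v : G}
    (hv : v ∈ line M l) : v = 1 ∨ v = z := by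
  have hz' := (mem_line M).1 hz
  have hv' := (mem_line M).1 hv
  have hz0 : M.e z l 0 = 1 := by
    rcases two_cases hF (M.e z l 0) with h | h
    · exfalso
      apply hz1
      rw [← fac_eq_one M hz'.1]
      apply NatPair.ext2
      · rw [h]; rfl
      · rw [hz'.2]; rfl
    · exact h
  rcases two_cases hF (M.e v l 0) with h | h
  · left
    rw [← fac_eq_one M hv'.1]
    apply NatPair.ext2
    · rw [h]; rfl
    · rw [hv'.2]; rfl
  · right
    refine ext_fac M hv'.1 hz'.1 ?_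
    apply NatPair.ext2
    · rw [h, hz0]
    · rw [hv'.2, hz'.2]

/-- a vector of `fac M l` fixed by `N_S(fac M l)` lies in the line. -/
theorem mem_line_of_fixed (hSP : S ≤ P) {l : Fin k} {v : G} (hv : v ∈ fac M l)
    (h : ∀ t ∈ S, t ∈ normalizer (fac M l : Set G) → t * v = v * t) : v ∈ line M l := by
  rw [mem_line]
  refine ⟨hv, ?_⟩
  obtain ⟨t, ht, h2⟩ := M.unip fun _ => 1
  have htn : t ∈ normalizer (fac M l : Set G) :=
    grp_normalizes M Set.univ {l} ⟨hSP ht, _, h2, fun j hj => (hj (Set.mem_univ j)).elim⟩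
  have h3 : t * v * t⁻¹ = v := by rw [h t ht htn]; group
  have h4 := h2.1 _ hv.1 l
  rw [h3] at h4
  have h5 := congrFun h4 0
  rw [NatPair.ap_zero'] at h5
  simpa using h5

end

section natD

variable [Finite G] {S : Sylow 2 G} {P V D : Subgroup G} (M : NatD F S P V D k)

/-- **The data** of THEOREM C with `D`. -/
theorem exists_blkD [CharP F 2] (hF : Nat.card F = 2) :
    ∃ x z : Fin k → G, ThmCD.BlkD (S : Subgroup G) P (o2 P) (fac M.toNatV) x z ∧
      (∀ l, x l ∈ grp M.toNatV {l}) ∧ ∀ l, z l ∈ line M.toNatV l := by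
  classical
  choose x hx hx3 a ha hal ham using fun l => exists_three_inv M.toNatV (SP M) l
  choose z hz hz1 hz0 using fun l => exists_z M.toNatV l
  refine ⟨x, z, ?_, hx, hz⟩
  exact
    { SP := SP M
      S2 := S.isPGroup'
      QS := o2_le_S M
      PQ := MinSimple.VModule.le_normalizer_o2 P
      VA := fun l => (fac_le M.toNatV l).trans (V_le_zz M)
      four := fun l => by rw [card_fac, hF]; norm_num
      perm := fun g hg l => ⟨_, conj_fac M.toNatV hg l⟩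
      inj := fun l m h => fac_inj M.toNatV h
      tr := fun l m => exists_trans M.toNatV (SP M) l m
      xP := fun l => (hx l).1
      xn := fun l => grp_normalizes M.toNatV {l} {l} (hx l)
      x3 := hx3
      xc := fun l i hil v hv => grp_comm M.toNatV (Set.disjoint_singleton.2 (Ne.symm hil)) (hx l) hv
      ker := fun g hg hgV b hb => comm_zz M hg (fun v hv => by
        rw [← iSup_fac M.toNatV] at hv
        have h3 : ⨆ l, fac M.toNatV l ≤ centralizer ({g} : Set G) := by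
          refine iSup_le fun l v hv => mem_centralizer_iff.mpr ?_
          rintro _ rfl
          exact hgV l v hv
        exact mem_centralizer_iff.mp (h3 hv) g rfl) hb
      fix := fun b hb hbS => by
        have h1 : b ∈ zc (S : Subgroup G) := MinSimple.VModule.mem_zc.mpr ⟨o2_le_S M (MinSimple.VModule.zc_le _ hb), hbS, zc_sq _ b hb⟩
        obtain ⟨n, hn, d, hd, h2⟩ := M.dec b (zc_le_zl _ _ h1)
        refine ⟨n, by rw [iSup_fac]; exact hn, d, zl_le_zz M (M.D_le hd), fun l => ?_, h2⟩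
        exact (mem_centralizer_iff.mp (M.cD (hx l).1) d hd).symm
      zV := fun l => line_le _ _ (hz l)
      z1 := hz1
      zf := fun l v hv h => line_casesV M.toNatV hF (hz l) (hz1 l) (mem_line_of_fixed M.toNatV (SP M) hv h)
      inv := fun l => ⟨a l, ha l, fun v hv => hal l v (fac_le _ _ hv), ham l⟩ }

/-- The data `DatD` for `P`. -/
theorem exists_datD [CharP F 2] (hF : Nat.card F = 2) :
    ∃ (Z : Fin k → Subgroup G) (x z : Fin k → G), ThmCD.DatD S (o2 P) Z x z ∧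
      (∀ l, fac M.toNatV l ≤ Z l) ∧ (∀ l, x l ∈ grp M.toNatV {l} ∧ Three (fac M.toNatV l) (x l)) ∧
        ∀ l, z l ∈ line M.toNatV l := by
  obtain ⟨x, z, B, hx, hz⟩ := exists_blkD M hF
  have hc := M.hG
  have hP := M.star
  have hSyl := MinSimple.Basic.not_dvd_relIndex S hP.le
  have hcP := IsLoc.char2 S hc hP.isLoc
  have hSC : (S : Subgroup G) ⊓ centralizer (zc (o2 P) : Set G) ≤ o2 P :=
    (inf_le_inf_left _ (centralizer_le (zl_le_zz M))).trans
      (inf_centralizer_zl hP.toIsMinPar S.isPGroup' hSyl hcP hP.not_zc).le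
  exact ⟨B.ML, x, z, B.dat hSC (centralizer_o2_le hc S hP), B.V_le_ML, fun l => ⟨hx l, B.x3 l⟩, hz⟩

/-- elements of `S` which normalise `Z m` normalise `fac M m`. -/
theorem nor_fac_of_datD {Z : Fin k → Subgroup G} {x z : Fin k → G} (D : ThmCD.DatD S (o2 P) Z x z)
    (hZ : ∀ l, fac M.toNatV l ≤ Z l) (hz : ∀ l, z l ∈ line M.toNatV l) {w : G} (hw : w ∈ (S : Subgroup G)) {m : Fin k}
    (h : w ∈ normalizer (Z m : Set G)) : w ∈ normalizer (fac M.toNatV m : Set G) := by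
  rw [mem_normalizer_fac_iff M.toNatV (SP M hw)]
  by_contra hne
  have h1 : w * z m * w⁻¹ ∈ fac M.toNatV (sg M.toNatV (SP M hw) m) := by
    rw [← conj_fac M.toNatV (SP M hw)]
    exact ⟨z m, line_le _ _ (hz m), rfl⟩
  have h2 : w * z m * w⁻¹ ∈ Z m := (mem_normalizer_iff.1 h _).1 (D.zm m)
  have h3 := D.disjZ hne (hZ _ h1) h2
  exact D.z1 m (by simpa using h3)

/-- **THEOREM C**, natural factors, `q = 2`, arbitrary `D`: `O₂(C_G(z)) ≤ S` for `1 ≠ z` in a line, and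
`O₂(C_G(z))` normalises the factors. -/
theorem thmCD [CharP F 2] (hF : Nat.card F = 2) {i : Fin k} {z : G} (hz : z ∈ line M.toNatV i) (hz1 : z ≠ 1) :
    o2 (centralizer ({z} : Set G)) ≤ (S : Subgroup G) ∧
      (∀ m, o2 (centralizer ({z} : Set G)) ≤ normalizer (fac M.toNatV m : Set G)) ∧
      ∀ l, l ≠ i → o2 (centralizer ({z} : Set G)) ≤ centralizer (fac M.toNatV l : Set G) := by
  obtain ⟨Z, x, z', D, hZ, hx, hz'⟩ := exists_datD M hF
  have hzz : z = z' i := (line_casesV M.toNatV hF (hz' i) (D.z1 i) hz).resolve_left hz1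
  rw [hzz]
  have hn : ∀ m, o2 (centralizer ({z' i} : Set G)) ≤ normalizer (fac M.toNatV m : Set G) := fun m w hw =>
    nor_fac_of_datD M D hZ hz' (D.le_S i hw) ((mem_inf.1 (D.le_S0 i hw)).2 |> fun h => (mem_iInf.1 h) m)
  refine ⟨D.le_S i, hn, fun l hl w hw => ?_⟩
  have hwS := D.le_S i hw
  -- `w` fixes `z' l`
  have h1 : w * z' l * w⁻¹ = z' l := by
    have := D.z_conj hwS l
    rwa [(D.mem_S0_iff hwS).1 (D.le_S0 i hw) l] at this
  have h2 : w * (x l * z' l * (x l)⁻¹) * w⁻¹ = x l * z' l * (x l)⁻¹ := by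
    rw [D.comm hl hw (D.le l (D.zm l)), h1]
  have hV4 : Nat.card (fac M.toNatV l) = 4 := by rw [card_fac, hF]; norm_num
  have hsq : ∀ u ∈ fac M.toNatV l, u * u = 1 := fun u hu => sq M.toNatV hu.1
  have hxn := grp_normalizes M.toNatV {l} {l} (hx l).1
  have hzl := line_le _ _ (hz' l)
  obtain ⟨hb1, hab, -, -⟩ := IITwo.Three.three_cycle hsq (fun u hu v hv => comm M.toNatV hu.1 hv.1) hxn (hx l).2
    hzl (D.z1 l)
  have hb := IITwo.Count.conj_mem hxn hzl
  have e1 : w * z' l = z' l * w := by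
    calc w * z' l = w * z' l * w⁻¹ * w := by group
      _ = _ := by rw [h1]
  have e2 : w * (x l * z' l * (x l)⁻¹) = (x l * z' l * (x l)⁻¹) * w := by
    calc w * (x l * z' l * (x l)⁻¹) = w * (x l * z' l * (x l)⁻¹) * w⁻¹ * w := by group
      _ = _ := by rw [h2]
  rw [mem_centralizer_iff]
  intro v hv
  rcases IITwo.Three.four_all hV4 hsq hzl hb (D.z1 l) hb1 hab v hv with h | h | h | h
  · rw [h, one_mul, mul_one]
  · rw [h, e1]
  · rw [h, e2]
  · rw [h]
    calc z' l * (x l * z' l * (x l)⁻¹) * w = z' l * ((x l * z' l * (x l)⁻¹) * w) := by group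
      _ = (z' l * w) * (x l * z' l * (x l)⁻¹) := by rw [← e2]; group
      _ = w * (z' l * (x l * z' l * (x l)⁻¹)) := by rw [← e1]; group

end natD

end Cfsg.Agent.Omega.IId.NV

end
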